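import Cfsg.Agent.H845.K547.Lin

/-!
# S4547: extensions of degree two (helper845)

* `transfer_comp` : the transfer of a restriction;
* `d3_of_index_two` : `N` normal of index two in `G`, `N ≤ G'`, `D3 N` ⟹ `D3 G` (transfer);
* `d3_autExt` : (JORDAN) `S` simple, `D3 S`, `τ²` inner, `τ` not inner ⟹ `D3 (AutExt τ)`;
* `rk_of_surj`, `rk_sylow`, `d3_of_rk`, `d3_congr`.
-/

set_option autoImplicit false

namespace Cfsg.Agent.H845.K547

open Cfsg Cfsg.Agent.H821.K547
open scoped commutatorElement

universe u v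

theorem rk_of_surj {n : ℕ} {P : Type u} [Group P] {P' : Type v} [Group P'] (g : P' →* P) (hg : Function.Surjective g)
    (h : Rk n P) : Rk n P' := by
  obtain ⟨f, hf⟩ := h
  exact ⟨f.comp g, hf.comp hg⟩

theorem rk_sylow {G : Type u} [Group G] [Finite G] (P Q : Sylow 2 G) {n : ℕ} (h : Rk n P) : Rk n Q := by
  have : Fact (Nat.Prime 2) := ⟨Nat.prime_two⟩
  let e : Q ≃* P := Q.equiv P
  exact rk_of_surj e.toMonoidHom e.surjective h

/-- `D3` from one Sylow 2-subgroup of an isomorphic group -/
theorem d3_of_equiv {G : Type u} [Group G] [Finite G] {H : Type v} [Group H] [Finite H] (e : G ≃* H) (P : Sylow 2 H)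
    (h : Rk 3 P) : D3 G := by
  have : Fact (Nat.Prime 2) := ⟨Nat.prime_two⟩
  intro Q
  have h1 : Rk 3 (Q.mapSurjective (f := e.toMonoidHom) e.surjective) := rk_sylow P _ h
  have h2 : Rk 3 ↥((Q : Subgroup G).map e.toMonoidHom) := h1
  exact rk_of_surj (e.toMonoidHom.subgroupMap (Q : Subgroup G)) (e.toMonoidHom.subgroupMap_surjective _) h2

theorem d3_congr {G : Type u} [Group G] [Finite G] {H : Type v} [Group H] [Finite H] (e : G ≃* H) (h : D3 H) : D3 G := by
  have : Fact (Nat.Prime 2) := ⟨Nat.prime_two⟩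
  obtain ⟨P⟩ : Nonempty (Sylow 2 H) := inferInstance
  exact d3_of_equiv e P (h P)

/-- the transfer of a restriction -/
theorem transfer_comp {G : Type*} [Group G] [Finite G] {P : Subgroup G} {A B : Type*} [CommGroup A] [CommGroup B]
    (μ : P →* A) (r : A →* B) (χ : G →* B) (h : ∀ x : P, r (μ x) = χ x) (g : G) :
    r (μ.transfer g) = χ g ^ P.index := by
  classical
  let := P.fintypeQuotientOfFiniteIndex
  rw [MonoidHom.transfer_eq_prod_quotient_orbitRel_zpowers_quot, map_prod]
  rw [Subgroup.index_eq_sum_minimalPeriod P g, ← Finset.prod_pow_eq_pow_sum]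
  refine Finset.prod_congr rfl fun q _ => ?_
  rw [h]
  show χ (q.out.out⁻¹ * g ^ Function.minimalPeriod (g • ·) q.out * q.out.out) = _
  rw [map_mul, map_mul, map_inv, map_pow, mul_comm, ← mul_assoc, mul_inv_cancel, one_mul]

section ext

variable {P : Type u} [Group P] {Q : Subgroup P} (hQ : Q.index = 2) {t : P} (ht : t ∉ Q) (m : W Q)

/-- extension of an invariant homomorphism: the general form -/
def extA {A : Type*} [AddCommGroup A] (hm : ∀ q : Q, ∀ q' : Q, (q' : P) = t * q * t⁻¹ → m (Additive.ofMul q') = m (Additive.ofMul q))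
    (j : ZMod 2 →+ A) (a : A)
    (ha : ∀ h : t * t ∈ Q, a + a = j (m (Additive.ofMul ⟨t * t, h⟩))) [DecidablePred (· ∈ Q)] :
    Additive P →+ A where
  toFun x := if h : Additive.toMul x ∈ Q then j (m (Additive.ofMul ⟨_, h⟩))
    else a + j (m (Additive.ofMul ⟨Additive.toMul x * t⁻¹,
      (Subgroup.mul_mem_iff_of_index_two hQ).2 (iff_of_false h (fun h' => ht (Q.inv_mem_iff.1 h')))⟩))
  map_zero' := by
    rw [dif_pos (show Additive.toMul (0 : Additive P) ∈ Q from Q.one_mem)]
    exact (congrArg j m.map_zero).trans j.map_zero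
  map_add' x y := by
    have ht' : t⁻¹ ∉ Q := fun h' => ht (Q.inv_mem_iff.1 h')
    have hmul : Additive.toMul (x + y) = Additive.toMul x * Additive.toMul y := rfl
    have iff1 : (Additive.toMul (x + y) ∈ Q) ↔ (Additive.toMul x ∈ Q ↔ Additive.toMul y ∈ Q) := by
      rw [hmul]; exact Subgroup.mul_mem_iff_of_index_two hQ
    by_cases hx : Additive.toMul x ∈ Q <;> by_cases hy : Additive.toMul y ∈ Q
    · have hxy : Additive.toMul (x + y) ∈ Q := iff1.2 (iff_of_true hx hy)
      rw [dif_pos hxy, dif_pos hx, dif_pos hy, ← j.map_add, ← m.map_add]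
      rfl
    · have hxy : Additive.toMul (x + y) ∉ Q := fun h => hy ((iff1.1 h).1 hx)
      rw [dif_neg hxy, dif_pos hx, dif_neg hy, add_left_comm, ← j.map_add, ← m.map_add]
      congr 3
      apply Additive.toMul.injective
      apply Subtype.ext
      show Additive.toMul x * Additive.toMul y * t⁻¹ = Additive.toMul x * (Additive.toMul y * t⁻¹)
      rw [mul_assoc]
    · have hxy : Additive.toMul (x + y) ∉ Q := fun h => hx ((iff1.1 h).2 hy)
      rw [dif_neg hxy, dif_neg hx, dif_pos hy]
      have hsy : t * Additive.toMul y * t⁻¹ ∈ Q := by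
        rw [Subgroup.mul_mem_iff_of_index_two hQ, Subgroup.mul_mem_iff_of_index_two hQ]
        tauto
      rw [← hm ⟨Additive.toMul y, hy⟩ ⟨_, hsy⟩ rfl, add_assoc, ← j.map_add, ← m.map_add]
      congr 3
      apply Additive.toMul.injective
      apply Subtype.ext
      show Additive.toMul x * Additive.toMul y * t⁻¹ = Additive.toMul x * t⁻¹ * (t * Additive.toMul y * t⁻¹)
      group
    · have hxy : Additive.toMul (x + y) ∈ Q := iff1.2 (iff_of_false hx hy)
      rw [dif_pos hxy, dif_neg hx, dif_neg hy]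
      have hys : Additive.toMul y * t⁻¹ ∈ Q := (Subgroup.mul_mem_iff_of_index_two hQ).2 (iff_of_false hy ht')
      have hsy : t * (Additive.toMul y * t⁻¹) * t⁻¹ ∈ Q := by
        rw [Subgroup.mul_mem_iff_of_index_two hQ, Subgroup.mul_mem_iff_of_index_two hQ]
        tauto
      have htt : t * t ∈ Q := (Subgroup.mul_mem_iff_of_index_two hQ).2 Iff.rfl
      rw [← hm ⟨Additive.toMul y * t⁻¹, hys⟩ ⟨_, hsy⟩ rfl, add_add_add_comm, ha htt, add_comm, ← j.map_add, ← m.map_add,
        ← j.map_add, ← m.map_add]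
      congr 2
      apply Additive.toMul.injective
      apply Subtype.ext
      show Additive.toMul x * Additive.toMul y = Additive.toMul x * t⁻¹ * (t * (Additive.toMul y * t⁻¹) * t⁻¹) * (t * t)
      group

end ext

/-- `ZMod 2 → ZMod 4`, `a ↦ 2 a` -/
def dbl : ZMod 2 →+ ZMod 4 where
  toFun a := if a = 0 then 0 else 2
  map_zero' := rfl
  map_add' := by decide

/-- the reduction `ZMod 4 → ZMod 2` -/
def red : ZMod 4 →+ ZMod 2 where
  toFun a := if a = 0 ∨ a = 2 then 0 else 1
  map_zero' := rfl
  map_add' := by decide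

/-- **the transfer lemma** -/
theorem apply_sq_eq_zero {G : Type u} [Group G] [Finite G] {N : Subgroup G} (hN : N.Normal) (h2 : N.index = 2)
    (hc : N ≤ commutator G) {P : Subgroup G} (hP : Odd P.index) {t : P} (ht : (t : G) ∉ N)
    (hQ : (N.subgroupOf P).index = 2) (m : W (N.subgroupOf P))
    (hm : ∀ q q' : N.subgroupOf P, (q' : P) = t * q * t⁻¹ → m (Additive.ofMul q') = m (Additive.ofMul q))
    (htt : t * t ∈ N.subgroupOf P) : m (Additive.ofMul ⟨t * t, htt⟩) = 0 := by
  classical
  by_contra hne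
  have h1 : m (Additive.ofMul ⟨t * t, htt⟩) = 1 := by
    have : ∀ a : ZMod 2, a ≠ 0 → a = 1 := by decide
    exact this _ hne
  have htQ : t ∉ N.subgroupOf P := ht
  -- the homomorphism to `ZMod 4`
  let μ₀ : Additive P →+ ZMod 4 := extA hQ htQ m hm dbl 1 (fun h => by
    rw [h1]
    decide)
  let μ : P →* Multiplicative (ZMod 4) := AddMonoidHom.toMultiplicativeRight μ₀
  let r : Multiplicative (ZMod 4) →* Multiplicative (ZMod 2) := AddMonoidHom.toMultiplicative red
  let χ₀ : W G := chi N h2
  let χ : G →* Multiplicative (ZMod 2) := AddMonoidHom.toMultiplicativeRight χ₀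
  have hχ : ∀ x : G, χ x = Multiplicative.ofAdd (if x ∈ N then (0 : ZMod 2) else 1) := fun x => rfl
  have key : ∀ x : P, r (μ x) = χ x := by
    intro x
    rw [hχ]
    have e1 : r (μ x) = Multiplicative.ofAdd (red (μ₀ (Additive.ofMul x))) := rfl
    rw [e1]
    congr 1
    by_cases hx : (x : G) ∈ N
    · rw [if_pos hx]
      have e2 : μ₀ (Additive.ofMul x) = dbl (m (Additive.ofMul ⟨x, hx⟩)) := dif_pos (show x ∈ N.subgroupOf P from hx)
      rw [e2]
      have : ∀ a : ZMod 2, red (dbl a) = 0 := by decide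
      exact this _
    · rw [if_neg hx]
      obtain ⟨b, hb⟩ : ∃ b : ZMod 2, μ₀ (Additive.ofMul x) = 1 + dbl b :=
        ⟨_, dif_neg (show x ∉ N.subgroupOf P from hx)⟩
      rw [hb]
      have : ∀ a : ZMod 2, red (1 + dbl a) = 1 := by decide
      exact this _
  have h3 := transfer_comp μ r χ key (t : G)
  -- the transfer kills `N`
  have h4 : μ.transfer ((t : G) * t) = 1 := by
    have h5 : (t : G) * t ∈ N := htt
    exact Abelianization.commutator_subset_ker μ.transfer (hc h5)
  rw [map_mul] at h4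
  have h5 : ∀ a : Multiplicative (ZMod 4), a * a = 1 → r a = 1 := by
    intro a ha
    have h6 : Multiplicative.toAdd a + Multiplicative.toAdd a = 0 := ha
    have h7 : ∀ b : ZMod 4, b + b = 0 → red b = 0 := by decide
    exact congrArg Multiplicative.ofAdd (h7 _ h6)
  rw [h5 _ h4, hχ, if_neg ht] at h3
  obtain ⟨k, hk⟩ := hP
  rw [hk, pow_succ, pow_mul] at h3
  have h6 : (Multiplicative.ofAdd (1 : ZMod 2)) ^ 2 = 1 := by decide
  rw [h6, one_pow, one_mul] at h3
  have h7 : (1 : Multiplicative (ZMod 2)) ≠ Multiplicative.ofAdd (1 : ZMod 2) := by decide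
  exact h7 h3

/-- **extensions of degree two** -/
theorem d3_of_index_two {G : Type u} [Group G] [Finite G] {N : Subgroup G} (hN : N.Normal) (h2 : N.index = 2)
    (hc : N ≤ commutator G) (h : D3 N) : D3 G := by
  classical
  have : Fact (Nat.Prime 2) := ⟨Nat.prime_two⟩
  intro P
  have hPi : Odd (P : Subgroup G).index := by
    rw [← Nat.not_even_iff_odd]
    intro h1
    exact P.not_dvd_index h1.two_dvd
  -- `P ⊄ N`
  obtain ⟨t₀, ht₀P, ht₀⟩ : ∃ t ∈ (P : Subgroup G), t ∉ N := by
    by_contra hcon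
    push Not at hcon
    have h1 : (P : Subgroup G) ≤ N := hcon
    have h3 := Subgroup.index_dvd_of_le h1
    rw [h2] at h3
    exact P.not_dvd_index h3
  let t : P := ⟨t₀, ht₀P⟩
  let Q : Subgroup P := N.subgroupOf P
  have hQ : Q.index = 2 := by
    have h1 : N.relIndex (P : Subgroup G) ∣ N.index := Subgroup.relIndex_dvd_index_of_normal N P
    rw [h2, Nat.dvd_prime Nat.prime_two] at h1
    rcases h1 with h1 | h1
    · exact absurd (Subgroup.relIndex_eq_one.1 h1 ht₀P) ht₀
    · exact h1
  -- `Q` is a Sylow subgroup of `N`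
  have hQN : Rk 3 Q := by
    let R : Subgroup N := (P : Subgroup G).subgroupOf N
    have hR : IsPGroup 2 R := P.2.comap_subtype
    have hRi : ¬ 2 ∣ R.index := by
      intro h1
      have h3 : R.index ∣ (P : Subgroup G).index := by
        have h4 : R.index = (P : Subgroup G).relIndex N := rfl
        have h5 := Subgroup.card_mul_index (P : Subgroup G)
        have h6 := Subgroup.card_mul_index N
        have h7 := Subgroup.card_mul_index Q
        have h8 := Subgroup.card_mul_index R
        have h9 : Nat.card R = Nat.card Q := by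
          refine Nat.card_congr ⟨fun x => ⟨⟨((x : N) : G), x.2⟩, (x : N).2⟩, fun x => ⟨⟨((x : P) : G), x.2⟩, (x : P).2⟩,
            fun x => rfl, fun x => rfl⟩
        rw [hQ] at h7
        rw [h2] at h6
        rw [h9] at h8
        have h10 : Nat.card Q * R.index = Nat.card Q * (P : Subgroup G).index := by
          have e1 : Nat.card Q * R.index * 2 = Nat.card Q * (P : Subgroup G).index * 2 := by
            calc Nat.card Q * R.index * 2 = Nat.card G := by rw [h8, h6]
              _ = Nat.card Q * 2 * (P : Subgroup G).index := by rw [h7, h5]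
              _ = _ := by ring
          exact Nat.eq_of_mul_eq_mul_right (by norm_num) e1
        exact (Nat.eq_of_mul_eq_mul_left Nat.card_pos h10).dvd
      exact P.not_dvd_index (h1.trans h3)
    have hRk : Rk 3 (hR.toSylow hRi) := h _
    have hRk' : Rk 3 R := hRk
    let e : Q →* R :=
      { toFun := fun x => ⟨⟨((x : P) : G), x.2⟩, (x : P).2⟩
        map_one' := rfl
        map_mul' := fun _ _ => rfl }
    exact rk_of_surj e (fun x => ⟨⟨⟨((x : N) : G), x.2⟩, (x : N).2⟩, rfl⟩) hRk'
  -- the action of `t`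
  obtain ⟨l, hl⟩ := li_of_rk hQN
  have hQn : Q.Normal := inferInstance
  have htt : t * t ∈ Q := (Subgroup.mul_mem_iff_of_index_two hQ).2 Iff.rfl
  let ct : Additive Q →+ Additive Q := MonoidHom.toAdditive (MulAut.conjNormal (H := Q) t).toMonoidHom
  let σ : W Q →ₗ[ZMod 2] W Q :=
    { toFun := fun m => m.comp ct
      map_add' := fun m m' => rfl
      map_smul' := fun c m => rfl }
  have hσ : ∀ m, σ (σ m) = m := by
    intro m
    refine AddMonoidHom.ext fun q => ?_
    have e1 : ct (ct q) = Additive.ofMul ((⟨t * t, htt⟩ : Q) * Additive.toMul q * (⟨t * t, htt⟩ : Q)⁻¹) := by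
      apply Additive.toMul.injective
      apply Subtype.ext
      show t * (t * ((Additive.toMul q : Q) : P) * t⁻¹) * t⁻¹ = t * t * ((Additive.toMul q : Q) : P) * (t * t)⁻¹
      group
    show m (ct (ct q)) = m q
    rw [e1, ofMul_mul, ofMul_mul, ofMul_inv, map_add, map_add, map_neg, add_neg_cancel_comm]
    rfl
  have hfin : Finite (W Q) := Finite.of_injective (fun m : W Q => (m : Additive Q → ZMod 2)) DFunLike.coe_injective
  obtain ⟨m, hm, hmf⟩ := exists_fixed σ hσ hl
  have hm' : ∀ i, ∀ q : Q, ∀ q' : Q, (q' : P) = t * q * t⁻¹ → m i (Additive.ofMul q') = m i (Additive.ofMul q) := by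
    intro i q q' hq
    have h1 := congrArg (fun f : W Q => f (Additive.ofMul q)) (hmf i)
    have h3 : m i (ct (Additive.ofMul q)) = m i (Additive.ofMul q) := h1
    rw [← h3]
    congr 1
    apply Additive.toMul.injective
    apply Subtype.ext
    exact hq
  have hz : ∀ i, ∀ h : t * t ∈ Q, m i (Additive.ofMul ⟨t * t, h⟩) = 0 := fun i h =>
    apply_sq_eq_zero hN h2 hc hPi ht₀ hQ (m i) (hm' i) h
  let E : Fin 2 → W P := fun i => extA hQ (t := t) ht₀ (m i) (hm' i) (AddMonoidHom.id _) 0 (fun h => by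
    rw [hz i h]; rfl)
  let l' : Fin 3 → W P := ![E 0, E 1, chi Q hQ]
  refine rk_of_li (l := l') ?_
  rw [Fintype.linearIndependent_iff]
  intro c hc
  have hval : ∀ x : P, c 0 * E 0 (Additive.ofMul x) + c 1 * E 1 (Additive.ofMul x) + c 2 * chi Q hQ (Additive.ofMul x) = 0 := by
    intro x
    have h1 := congrArg (fun f : W P => f (Additive.ofMul x)) hc
    rw [Fin.sum_univ_three] at h1
    exact h1
  have h01 : ∀ i, c (Fin.castSucc i) = 0 := by
    refine Fintype.linearIndependent_iff.1 hm (fun i => c (Fin.castSucc i)) ?_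
    refine AddMonoidHom.ext fun q => ?_
    have h1 := hval ((Additive.toMul q : Q) : P)
    have e0 : ∀ i, E i (Additive.ofMul ((Additive.toMul q : Q) : P)) = m i q := by
      intro i
      exact dif_pos (Additive.toMul q : Q).2
    have e2 : chi Q hQ (Additive.ofMul ((Additive.toMul q : Q) : P)) = 0 := if_pos (Additive.toMul q : Q).2
    rw [e0, e0, e2, mul_zero, add_zero] at h1
    rw [Fin.sum_univ_two]
    exact h1
  have h0 : c 0 = 0 := h01 0
  have h1 : c 1 = 0 := h01 1
  have h3 : c 2 = 0 := by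
    have h4 := hval t
    have e2 : chi Q hQ (Additive.ofMul t) = 1 := if_neg ht₀
    rw [h0, h1, e2, zero_mul, zero_mul, mul_one, zero_add, zero_add] at h4
    exact h4
  intro i
  fin_cases i
  · exact h0
  · exact h1
  · exact h3

/-- **(JORDAN)** -/
theorem d3_autExt {S : Type u} [Group S] [Finite S] [IsSimpleGroup S] (hna : ¬ IsMulCommutative S) (h : D3 S)
    {τ : MulAut S} (hτ : ∃ s : S, ∀ x, (τ ^ 2) x = s * x * s⁻¹) (hni : ¬ IsInn τ) : D3 (AutExt τ) := by
  have hfin : Finite (MulAut S) := Finite.of_injective (fun f : MulAut S => (f : S → S)) DFunLike.coe_injective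
  have hzc : Subgroup.center S = ⊥ := by
    rcases Subgroup.Normal.eq_bot_or_eq_top (H := Subgroup.center S) inferInstance with h1 | h1
    · exact h1
    · exfalso
      exact hna ⟨⟨fun a b => (Subgroup.mem_center_iff.1 (h1 ▸ Subgroup.mem_top b : b ∈ Subgroup.center S) a)⟩⟩
  have hcomm : commutator S = ⊤ := by
    rcases Subgroup.Normal.eq_bot_or_eq_top (H := commutator S) inferInstance with h1 | h1
    · exfalso
      refine hna ⟨⟨fun a b => ?_⟩⟩
      have h2 : ⁅a, b⁆ ∈ commutator S := Subgroup.commutator_mem_commutator (Subgroup.mem_top a) (Subgroup.mem_top b)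
      rw [h1, Subgroup.mem_bot] at h2
      exact commutatorElement_eq_one_iff_mul_comm.1 h2
    · exact h1
  have hinj : Function.Injective (MulAut.conj : S →* MulAut S) := by
    rw [injective_iff_map_eq_one]
    intro g hg
    have h1 : g ∈ Subgroup.center S := by
      rw [Subgroup.mem_center_iff]
      intro k
      have h2 := congrArg (fun f : MulAut S => f k) hg
      simp only [MulAut.conj_apply, MulAut.one_apply] at h2
      exact (mul_inv_eq_iff_eq_mul.1 h2).symm
    rwa [hzc, Subgroup.mem_bot] at h1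
  have hnorm : ((MulAut.conj : S →* MulAut S).range).Normal := by
    refine ⟨?_⟩
    rintro _ ⟨k, rfl⟩ β
    refine ⟨β k, ?_⟩
    ext x
    show β k * x * (β k)⁻¹ = β (k * β⁻¹ x * k⁻¹)
    rw [map_mul, map_mul, map_inv, MulAut.apply_inv_self]
  have hle : (MulAut.conj : S →* MulAut S).range ≤ AutExt τ := le_sup_left
  have hτm : τ ∈ AutExt τ := (le_sup_right : Subgroup.zpowers τ ≤ AutExt τ) (Subgroup.mem_zpowers τ)
  have hτ2 : τ * τ ∈ (MulAut.conj : S →* MulAut S).range := by
    obtain ⟨s, hs⟩ := hτ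
    refine ⟨s, ?_⟩
    ext x
    rw [← pow_two]
    exact (hs x).symm
  have hτ1 : τ ∉ (MulAut.conj : S →* MulAut S).range := by
    rintro ⟨s, hs⟩
    exact hni ⟨s, fun x => by rw [← hs]; rfl⟩
  let N : Subgroup (AutExt τ) := (MulAut.conj : S →* MulAut S).range.subgroupOf (AutExt τ)
  have hN : N.Normal := inferInstance
  -- every element of the extension
  have hall : ∀ x ∈ AutExt τ, x ∈ (MulAut.conj : S →* MulAut S).range ∨ x * τ ∈ (MulAut.conj : S →* MulAut S).range := by
    intro x hx
    obtain ⟨n, hn, y, hy, rfl⟩ := Subgroup.mem_sup_of_normal_left.1 hx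
    obtain ⟨k, rfl⟩ := Subgroup.mem_zpowers_iff.1 hy
    rcases Int.even_or_odd' k with ⟨j, rfl | rfl⟩
    · left
      refine Subgroup.mul_mem _ hn ?_
      rw [zpow_mul]
      exact Subgroup.zpow_mem _ (by rw [zpow_two]; exact hτ2) j
    · right
      rw [mul_assoc]
      refine Subgroup.mul_mem _ hn ?_
      rw [← zpow_add_one, show 2 * j + 1 + 1 = 2 * (j + 1) by ring, zpow_mul]
      exact Subgroup.zpow_mem _ (by rw [zpow_two]; exact hτ2) _
  have hidx : N.index = 2 := by
    rw [Subgroup.index_eq_two_iff]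
    refine ⟨⟨τ, hτm⟩, ?_⟩
    rintro ⟨x, hx⟩
    have hnot : ¬ (x * τ ∈ (MulAut.conj : S →* MulAut S).range ∧ x ∈ (MulAut.conj : S →* MulAut S).range) := by
      rintro ⟨h2, h3⟩
      apply hτ1
      have := Subgroup.mul_mem _ (Subgroup.inv_mem _ h3) h2
      rwa [inv_mul_cancel_left] at this
    show Xor' (x * τ ∈ (MulAut.conj : S →* MulAut S).range) (x ∈ (MulAut.conj : S →* MulAut S).range)
    rcases hall x hx with h3 | h3
    · exact Or.inr ⟨h3, fun h' => hnot ⟨h', h3⟩⟩
    · exact Or.inl ⟨h3, fun h' => hnot ⟨h3, h'⟩⟩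
  -- the embedding
  let j : S →* AutExt τ := (MulAut.conj : S →* MulAut S).codRestrict _ fun s => hle ⟨s, rfl⟩
  have hj : Function.Injective j := fun a b hab => hinj (congrArg Subtype.val hab)
  have hjr : j.range = N := by
    ext ⟨x, hx⟩
    rw [Subgroup.mem_subgroupOf]
    constructor
    · rintro ⟨s, hs⟩
      exact ⟨s, congrArg Subtype.val hs⟩
    · rintro ⟨s, hs⟩
      exact ⟨s, Subtype.ext hs⟩
  have hNc : N ≤ commutator (AutExt τ) := by
    rw [← hjr, MonoidHom.range_eq_map, ← hcomm, commutator_def, Subgroup.map_commutator, commutator_def]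
    exact Subgroup.commutator_mono le_top le_top
  have hfA : Finite (AutExt τ) := inferInstance
  refine d3_of_index_two hN hidx hNc ?_
  rw [← hjr]
  exact d3_congr (MonoidHom.ofInjective hj).symm h

end Cfsg.Agent.H845.K547
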