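import Cfsg.Agent.H821.K547.Defs
import Cfsg.Agent.H535.K4.ON

/-!
# S4547, O'N: three good characters invariant under all automorphisms (helper845)

The characters of degree 1, 58653, 116963 are determined by their degrees (helper535).
-/

set_option autoImplicit false

namespace Cfsg.Agent.H845.K547.ON

open Cfsg Subgroup
open Cfsg.Agent.Characters.Core
open Cfsg.Agent.H601.K4 Cfsg.Agent.H821.K547
open Cfsg.Agent.H921.K4 (Uniq)
open Cfsg.Agent.H535.K4.ON

universe u

theorem exists_three : ∃ χ : Fin 3 → Spor.ON → ℂ, Function.Injective χ ∧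
    ∀ i, Good (χ i) ∧ ∀ (φ : MulAut Spor.ON) (x : Spor.ON), χ i (φ x) = χ i x := by
  classical
  have hfin : Finite Spor.ON := KFacts.ON.Cent.finite_ON
  have hs : IsSimpleGroup Spor.ON := KFacts.ON.Cent.hON.1
  have hna : ¬ IsMulCommutative Spor.ON := by
    intro h
    have h1 := H210.On7.px1
    rw [h.is_comm.comm H210.On7.p0 H210.On7.x1, mul_inv_cancel_right] at h1
    have h3 := H210.On7.px2
    rw [h.is_comm.comm H210.On7.p0 H210.On7.x2, mul_inv_cancel_right, ← h1] at h3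
    have h4 : H210.On7.x1 ^ 2 = 1 := by rw [pow_two]; nth_rewrite 1 [h3]; exact inv_mul_cancel _
    exact H210.On7.x1_ne (R04.ThreeAbs.eq_one_of_sq_cube h4 H210.On7.x1_pow)
  obtain ⟨Δ⟩ := H210.On7.exists_data
  have hON : Spor.IsoON Spor.ON := ⟨MulEquiv.refl _⟩
  have hC : H601.OddDeg.TwoC Spor.ON := H989.TwoCSpor.twoC_spor (by
    unfold IsSporadicGroup
    exact Or.inr (Or.inr (Or.inr (Or.inr (Or.inr (Or.inr (Or.inr (Or.inr (Or.inr (Or.inr (Or.inr (Or.inr (Or.inr
      (Or.inr (Or.inr (Or.inr (Or.inr (Or.inl hON))))))))))))))))))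
  obtain ⟨b, -, hb⟩ := exists_deg hna Δ 58653 a_f58653 cs_f58653 cert_f58653 all_f58653
  obtain ⟨c, -, hc⟩ := exists_deg hna Δ 116963 a_f116963 cs_f116963 cert_f116963 all_f116963
  have ub : Uniq (b : Spor.ON → ℂ) := uniq_of hb (by norm_num) fun ψ hψ =>
    uniq_deg hna Δ 58653 a_u58653 m_u58653 (by norm_num [m_u58653]) cs_u58653 cert_u58653 all_u58653 hψ hb
  have uc : Uniq (c : Spor.ON → ℂ) := uniq_of hc (by norm_num) fun ψ hψ =>
    uniq_deg hna Δ 116963 a_u116963 m_u116963 (by norm_num [m_u116963]) cs_u116963 cert_u116963 all_u116963 hψ hc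
  have g1 : Good (fun _ : Spor.ON => (1 : ℂ)) := H329.K4.good_one hC
  refine ⟨![fun _ => 1, b, c], ?_, ?_⟩
  · refine H921.K4.injective_of_degree (d := ![1, 58653, 116963]) (by decide) ?_
    intro i
    fin_cases i
    · show (1 : ℂ) = ((1 : ℕ) : ℂ)
      norm_num
    · show (b : Spor.ON → ℂ) 1 = ((58653 : ℕ) : ℂ)
      rw [Cfsg.Agent.Blocks.Basic.irr_one_eq_charDegree b.2, hb]
    · show (c : Spor.ON → ℂ) 1 = ((116963 : ℕ) : ℂ)
      rw [Cfsg.Agent.Blocks.Basic.irr_one_eq_charDegree c.2, hc]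
  · intro i
    fin_cases i
    · exact ⟨g1, fun _ _ => rfl⟩
    · exact ⟨ub.good, ub.inv⟩
    · exact ⟨uc.good, uc.inv⟩

theorem ginv3 {S : Type u} [Group S] (h : Spor.IsoON S) (τ : MulAut S) : GInv3 τ := by
  obtain ⟨χ, hinj, hχ⟩ := exists_three
  obtain ⟨e⟩ := h
  refine ⟨fun i s => χ i (e s), fun i j hij => hinj ?_, fun i => ⟨H740.K4.good_comp e (hχ i).1, fun x => ?_⟩⟩
  · funext x
    have := congrFun hij (e.symm x)
    simpa using this
  · have h1 := (hχ i).2 ((e.symm.trans τ).trans e) (e x)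
    have h2 : ((e.symm.trans τ).trans e) (e x) = e (τ x) := by
      show e (τ (e.symm (e x))) = e (τ x)
      rw [e.symm_apply_apply]
    rwa [h2] at h1

end Cfsg.Agent.H845.K547.ON
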