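import Cfsg.Agent.H845.K547.ONSyl
import Cfsg.Agent.H845.K547.ONChar
import Cfsg.Agent.OddHalf.D8.SheetMap

/-!
# S4547: the row O'N (helper845)
-/

set_option autoImplicit false

namespace Cfsg.Agent.H845.K547.ON

open Cfsg Cfsg.Agent.H821.K547 Cfsg.Agent.H845.K547

universe u

/-- **the row O'N** -/
theorem row {S : Type u} [Group S] (h : Spor.IsoON S) : Row S where
  base := Or.inl ⟨H535.K4.ON.good5_on h, d3_ON h⟩
  ext := by
    intro τ _ hni
    have hfin : Finite Spor.ON := KFacts.ON.Cent.finite_ON
    have hsON : IsSimpleGroup Spor.ON := KFacts.ON.Cent.hON.1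
    refine iff_of_true (ginv3 h τ) ?_
    have hd := d3_ON h
    obtain ⟨e⟩ := h
    have hfS : Finite S := Finite.of_equiv _ e.symm.toEquiv
    have hsS : IsSimpleGroup S := e.isSimpleGroup
    have hcard : Nat.card S = 460815505920 := (Nat.card_congr e.toEquiv).trans KFacts.ON.Cent.hON.2
    have hna : ¬ IsMulCommutative S := by
      intro hc
      let _ : CommGroup S := { (inferInstance : Group S) with mul_comm := fun a b => hc.is_comm.comm a b }
      have h1 := IsSimpleGroup.prime_card (α := S)
      rw [hcard] at h1
      norm_num at h1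
    refine d3_autExt hna hd ?_ hni
    have h1 : (MulAut.conj : S →* MulAut S).range.index ≤ 2 := by
      rw [OddHalf.D8.SheetMap.index_range e.symm]
      exact KFacts.ON.Aut.index_le
    have hfA : Finite (MulAut S) := Finite.of_injective (fun f : MulAut S => (f : S → S)) DFunLike.coe_injective
    have hne : (MulAut.conj : S →* MulAut S).range.index ≠ 0 := Subgroup.index_ne_zero_of_finite
    have h2 : τ ^ 2 ∈ (MulAut.conj : S →* MulAut S).range := by
      have h3 : (MulAut.conj : S →* MulAut S).range.index = 1 ∨ (MulAut.conj : S →* MulAut S).range.index = 2 := by omega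
      rcases h3 with h3 | h3
      · rw [Subgroup.index_eq_one.1 h3]
        exact Subgroup.mem_top _
      · exact Subgroup.sq_mem_of_index_two h3 τ
    obtain ⟨s, hs⟩ := h2
    exact ⟨s, fun x => by rw [← hs]; rfl⟩

end Cfsg.Agent.H845.K547.ON
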