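import Cfsg.Agent.H821.K547.Defs

/-!
# S4547: `Rk n P` and linear algebra (helper845)

* `W P` : the homomorphisms `P → F₂` (an `F₂`-space);
* `rk_iff_li` : `Rk n P` iff there are `n` linearly independent homomorphisms;
* `rk_of_compl` : `Q ≤ P` of index two with a complement `⟨s⟩`, `Rk 3 Q` ⟹ `Rk 3 P`.
-/

set_option autoImplicit false

namespace Cfsg.Agent.H845.K547

open Cfsg Cfsg.Agent.H821.K547

universe u

/-- the homomorphisms to `F₂` -/
abbrev W (P : Type*) [Group P] := Additive P →+ ZMod 2

variable {P : Type u} [Group P]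

/-- the homomorphism with given coordinates -/
def coord {n : ℕ} (l : Fin n → W P) : P →* Multiplicative (Fin n → ZMod 2) where
  toFun x := Multiplicative.ofAdd fun i => l i (Additive.ofMul x)
  map_one' := by
    rw [← ofAdd_zero]
    congr 1
    funext i
    exact (l i).map_zero
  map_mul' x y := by
    rw [← ofAdd_add]
    congr 1
    funext i
    exact (l i).map_add _ _

theorem rk_of_li {n : ℕ} {l : Fin n → W P} (h : LinearIndependent (ZMod 2) l) : Rk n P := by
  refine ⟨coord l, ?_⟩
  let R : AddSubgroup (Fin n → ZMod 2) :=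
    { carrier := {v | ∃ x : P, v = fun i => l i (Additive.ofMul x)}
      zero_mem' := ⟨1, by funext i; exact (l i).map_zero.symm⟩
      add_mem' := by
        rintro _ _ ⟨x, rfl⟩ ⟨y, rfl⟩
        exact ⟨x * y, by funext i; exact ((l i).map_add _ _).symm⟩
      neg_mem' := by
        rintro _ ⟨x, rfl⟩
        exact ⟨x⁻¹, by funext i; exact ((l i).map_neg _).symm⟩ }
  let R' : Submodule (ZMod 2) (Fin n → ZMod 2) := AddSubgroup.toZModSubmodule 2 R
  have hR : R' = ⊤ := by
    by_contra hne
    obtain ⟨f, hf, hfR⟩ := Submodule.exists_le_ker_of_lt_top R' (lt_top_iff_ne_top.2 hne)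
    apply hf
    have h0 : ∑ i, f (Pi.single i 1) • l i = 0 := by
      refine AddMonoidHom.ext fun x => ?_
      have h1 : f (fun i => l i x) = 0 := hfR (show (fun i => l i x) ∈ R from ⟨Additive.toMul x, rfl⟩)
      rw [LinearMap.pi_apply_eq_sum_univ] at h1
      rw [AddMonoidHom.finsetSum_apply, AddMonoidHom.zero_apply, ← h1]
      refine Finset.sum_congr rfl fun i _ => ?_
      rw [AddMonoidHom.smul_apply, smul_eq_mul, smul_eq_mul, mul_comm]
      congr 2
      funext j
      by_cases hj : i = j
      · subst hj; simp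
      · rw [Pi.single_eq_of_ne (Ne.symm hj), if_neg hj]
    have h1 := Fintype.linearIndependent_iff.1 h _ h0
    apply LinearMap.pi_ext'
    intro i
    ext
    exact h1 i
  intro v
  have hv : Multiplicative.toAdd v ∈ R' := by rw [hR]; exact Submodule.mem_top
  obtain ⟨x, hx⟩ : ∃ x : P, Multiplicative.toAdd v = fun i => l i (Additive.ofMul x) := hv
  exact ⟨x, by rw [← ofAdd_toAdd v, hx]; rfl⟩

theorem li_of_rk {n : ℕ} (h : Rk n P) : ∃ l : Fin n → W P, LinearIndependent (ZMod 2) l := by
  obtain ⟨f, hf⟩ := h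
  refine ⟨fun i =>
    { toFun := fun x => Multiplicative.toAdd (f (Additive.toMul x)) i
      map_zero' := by
        show Multiplicative.toAdd (f 1) i = 0
        rw [map_one]; rfl
      map_add' := fun x y => by
        show Multiplicative.toAdd (f (Additive.toMul x * Additive.toMul y)) i = _
        rw [map_mul]; rfl }, ?_⟩
  rw [Fintype.linearIndependent_iff]
  intro c hc i
  obtain ⟨x, hx⟩ := hf (Multiplicative.ofAdd (Pi.single i 1))
  have h1 := congrArg (fun g : W P => g (Additive.ofMul x)) hc
  simp only [AddMonoidHom.finsetSum_apply, AddMonoidHom.smul_apply, AddMonoidHom.zero_apply] at h1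
  rw [Finset.sum_eq_single i] at h1
  · have h2 : c i • Multiplicative.toAdd (f x) i = 0 := h1
    rw [hx, toAdd_ofAdd, Pi.single_eq_same, smul_eq_mul, mul_one] at h2
    exact h2
  · intro j _ hj
    show c j • Multiplicative.toAdd (f x) j = 0
    rw [hx, toAdd_ofAdd, Pi.single_eq_of_ne hj, smul_zero]
  · intro h2
    exact absurd (Finset.mem_univ i) h2

theorem rk_iff_li {n : ℕ} : Rk n P ↔ ∃ l : Fin n → W P, LinearIndependent (ZMod 2) l :=
  ⟨li_of_rk, fun ⟨_, h⟩ => rk_of_li h⟩

/-- extension of an invariant homomorphism to a split extension of degree two -/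
def ext {Q : Subgroup P} (hQ : Q.index = 2) {s : P} (hs : s * s = 1) (hsQ : s ∉ Q) (m : W Q)
    (hm : ∀ q : Q, ∀ q' : Q, (q' : P) = s * q * s → m (Additive.ofMul q') = m (Additive.ofMul q)) [DecidablePred (· ∈ Q)] :
    W P where
  toFun x := if h : Additive.toMul x ∈ Q then m (Additive.ofMul ⟨_, h⟩)
    else m (Additive.ofMul ⟨Additive.toMul x * s, (Subgroup.mul_mem_iff_of_index_two hQ).2 (iff_of_false h hsQ)⟩)
  map_zero' := by
    rw [dif_pos (show Additive.toMul (0 : Additive P) ∈ Q from Q.one_mem)]
    exact m.map_zero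
  map_add' x y := by
    have hmul : Additive.toMul (x + y) = Additive.toMul x * Additive.toMul y := rfl
    have iff1 : (Additive.toMul (x + y) ∈ Q) ↔ (Additive.toMul x ∈ Q ↔ Additive.toMul y ∈ Q) := by
      rw [hmul]; exact Subgroup.mul_mem_iff_of_index_two hQ
    by_cases hx : Additive.toMul x ∈ Q <;> by_cases hy : Additive.toMul y ∈ Q
    · have hxy : Additive.toMul (x + y) ∈ Q := iff1.2 (iff_of_true hx hy)
      rw [dif_pos hxy, dif_pos hx, dif_pos hy, ← m.map_add]
      rfl
    · have hxy : Additive.toMul (x + y) ∉ Q := fun h => hy ((iff1.1 h).1 hx)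
      rw [dif_neg hxy, dif_pos hx, dif_neg hy, ← m.map_add]
      congr 1
      apply Additive.toMul.injective
      apply Subtype.ext
      show Additive.toMul x * Additive.toMul y * s = Additive.toMul x * (Additive.toMul y * s)
      rw [mul_assoc]
    · have hxy : Additive.toMul (x + y) ∉ Q := fun h => hx ((iff1.1 h).2 hy)
      rw [dif_neg hxy, dif_neg hx, dif_pos hy]
      have hsy : s * Additive.toMul y * s ∈ Q := by
        rw [Subgroup.mul_mem_iff_of_index_two hQ, Subgroup.mul_mem_iff_of_index_two hQ]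
        tauto
      rw [← hm ⟨Additive.toMul y, hy⟩ ⟨_, hsy⟩ rfl, ← m.map_add]
      congr 1
      apply Additive.toMul.injective
      apply Subtype.ext
      show Additive.toMul x * Additive.toMul y * s = Additive.toMul x * s * (s * Additive.toMul y * s)
      rw [← mul_assoc, ← mul_assoc, mul_assoc (Additive.toMul x) s s, hs, mul_one]
    · have hxy : Additive.toMul (x + y) ∈ Q := iff1.2 (iff_of_false hx hy)
      rw [dif_pos hxy, dif_neg hx, dif_neg hy]
      have hys : Additive.toMul y * s ∈ Q := (Subgroup.mul_mem_iff_of_index_two hQ).2 (iff_of_false hy hsQ)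
      have hsy : s * Additive.toMul y ∈ Q := (Subgroup.mul_mem_iff_of_index_two hQ).2 (iff_of_false hsQ hy)
      rw [← hm ⟨Additive.toMul y * s, hys⟩ ⟨_, hsy⟩ (by
        show s * Additive.toMul y = s * (Additive.toMul y * s) * s
        rw [mul_assoc s, mul_assoc (Additive.toMul y), hs, mul_one]), ← m.map_add]
      congr 1
      apply Additive.toMul.injective
      apply Subtype.ext
      show Additive.toMul x * Additive.toMul y = Additive.toMul x * s * (s * Additive.toMul y)
      rw [← mul_assoc, mul_assoc (Additive.toMul x) s s, hs, mul_one]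

/-- the homomorphism with kernel `Q` -/
def chi (Q : Subgroup P) (hQ : Q.index = 2) [DecidablePred (· ∈ Q)] : W P where
  toFun x := if Additive.toMul x ∈ Q then 0 else 1
  map_zero' := if_pos Q.one_mem
  map_add' x y := by
    have iff1 : (Additive.toMul (x + y) ∈ Q) ↔ (Additive.toMul x ∈ Q ↔ Additive.toMul y ∈ Q) :=
      Subgroup.mul_mem_iff_of_index_two hQ
    by_cases hx : Additive.toMul x ∈ Q <;> by_cases hy : Additive.toMul y ∈ Q
    · rw [if_pos (iff1.2 (iff_of_true hx hy)), if_pos hx, if_pos hy, add_zero]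
    · rw [if_neg fun h => hy ((iff1.1 h).1 hx), if_pos hx, if_neg hy, zero_add]
    · rw [if_neg fun h => hx ((iff1.1 h).2 hy), if_neg hx, if_pos hy, add_zero]
    · rw [if_pos (iff1.2 (iff_of_false hx hy)), if_neg hx, if_neg hy]
      decide

/-- an involution of an `F₂`-space of dimension at least three has two independent fixed vectors -/
theorem exists_fixed {E : Type*} [AddCommGroup E] [Module (ZMod 2) E] [Finite E] (σ : E →ₗ[ZMod 2] E)
    (hσ : ∀ x, σ (σ x) = x) {l : Fin 3 → E} (hl : LinearIndependent (ZMod 2) l) :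
    ∃ m : Fin 2 → E, LinearIndependent (ZMod 2) m ∧ ∀ i, σ (m i) = m i := by
  have hf : Module.Finite (ZMod 2) E := Module.Finite.of_finite
  let τ : E →ₗ[ZMod 2] E := σ + LinearMap.id
  have hτ : ∀ x, τ x = σ x + x := fun x => rfl
  have h2 : ∀ x : E, x + x = 0 := fun x => by
    have : (2 : ZMod 2) • x = 0 := by rw [show (2 : ZMod 2) = 0 from rfl, zero_smul]
    rwa [two_smul] at this
  have hle : τ.range ≤ τ.ker := by
    rintro _ ⟨x, rfl⟩
    rw [LinearMap.mem_ker, hτ, hτ, map_add, hσ, add_comm x, add_add_add_comm, h2, h2, add_zero]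
  have h3 := τ.finrank_range_add_finrank_ker
  have h4 := Submodule.finrank_mono hle
  have h5 : 3 ≤ Module.finrank (ZMod 2) E := by
    have := hl.fintype_card_le_finrank
    rwa [Fintype.card_fin] at this
  have h6 : 2 ≤ Module.finrank (ZMod 2) τ.ker := by omega
  obtain ⟨m, hm⟩ := exists_linearIndependent_of_le_finrank h6
  refine ⟨fun i => (m i : E), ?_, fun i => ?_⟩
  · exact hm.map' τ.ker.subtype (Submodule.ker_subtype _)
  · have h7 : σ (m i) + (m i : E) = 0 := (m i).2
    have h8 := h2 (m i : E)
    rw [← h8] at h7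
    exact add_right_cancel h7

/-- **a split extension of degree two** -/
theorem rk_of_compl [Finite P] {Q : Subgroup P} (hQ : Q.index = 2) {s : P} (hs : s * s = 1) (hsQ : s ∉ Q)
    (h : Rk 3 Q) : Rk 3 P := by
  classical
  obtain ⟨l, hl⟩ := li_of_rk h
  have hinv : s⁻¹ = s := inv_eq_of_mul_eq_one_left hs
  have hconj : ∀ q ∈ Q, s * q * s ∈ Q := by
    intro q hq
    rw [Subgroup.mul_mem_iff_of_index_two hQ, Subgroup.mul_mem_iff_of_index_two hQ]
    tauto
  let cs : Additive Q →+ Additive Q :=
    { toFun := fun q => Additive.ofMul ⟨s * (Additive.toMul q : Q) * s, hconj _ (Additive.toMul q).2⟩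
      map_zero' := by
        apply Additive.toMul.injective
        apply Subtype.ext
        show s * 1 * s = 1
        rw [mul_one, hs]
      map_add' := fun x y => by
        apply Additive.toMul.injective
        apply Subtype.ext
        show s * (((Additive.toMul x : Q) : P) * ((Additive.toMul y : Q) : P)) * s =
          s * ((Additive.toMul x : Q) : P) * s * (s * ((Additive.toMul y : Q) : P) * s)
        rw [← mul_assoc, ← mul_assoc, ← mul_assoc, mul_assoc _ s s, hs, mul_one] }
  let σ : W Q →ₗ[ZMod 2] W Q :=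
    { toFun := fun m => m.comp cs
      map_add' := fun m m' => rfl
      map_smul' := fun c m => rfl }
  have hσ : ∀ m, σ (σ m) = m := by
    intro m
    refine AddMonoidHom.ext fun q => ?_
    show m (cs (cs q)) = m q
    congr 1
    apply Additive.toMul.injective
    apply Subtype.ext
    show s * (s * ((Additive.toMul q : Q) : P) * s) * s = ((Additive.toMul q : Q) : P)
    rw [← mul_assoc, ← mul_assoc, hs, one_mul, mul_assoc, hs, mul_one]
  have hfin : Finite (W Q) := Finite.of_injective (fun m : W Q => (m : Additive Q → ZMod 2)) DFunLike.coe_injective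
  obtain ⟨m, hm, hmf⟩ := exists_fixed σ hσ hl
  have hm' : ∀ i, ∀ q : Q, ∀ q' : Q, (q' : P) = s * q * s → m i (Additive.ofMul q') = m i (Additive.ofMul q) := by
    intro i q q' hq
    have h1 := congrArg (fun f : W Q => f (Additive.ofMul q)) (hmf i)
    have h2 : m i (Additive.ofMul (⟨s * q * s, hconj _ q.2⟩ : Q)) = m i (Additive.ofMul q) := h1
    rw [← h2]
    congr 2
    exact Subtype.ext hq
  let l' : Fin 3 → W P := ![ext hQ hs hsQ (m 0) (hm' 0), ext hQ hs hsQ (m 1) (hm' 1), chi Q hQ]
  refine rk_of_li (l := l') ?_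
  rw [Fintype.linearIndependent_iff]
  intro c hc
  have hval : ∀ x : P, c 0 * ext hQ hs hsQ (m 0) (hm' 0) (Additive.ofMul x) +
      c 1 * ext hQ hs hsQ (m 1) (hm' 1) (Additive.ofMul x) + c 2 * chi Q hQ (Additive.ofMul x) = 0 := by
    intro x
    have h1 := congrArg (fun f : W P => f (Additive.ofMul x)) hc
    rw [Fin.sum_univ_three] at h1
    exact h1
  have h01 : ∀ i, c (Fin.castSucc i) = 0 := by
    refine Fintype.linearIndependent_iff.1 hm (fun i => c (Fin.castSucc i)) ?_
    refine AddMonoidHom.ext fun q => ?_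
    have h1 := hval ((Additive.toMul q : Q) : P)
    have e0 : ∀ i, ext hQ hs hsQ (m i) (hm' i) (Additive.ofMul ((Additive.toMul q : Q) : P)) = m i q := by
      intro i
      show (if h : ((Additive.toMul q : Q) : P) ∈ Q then m i (Additive.ofMul ⟨_, h⟩) else _) = m i q
      rw [dif_pos (Additive.toMul q : Q).2]
      rfl
    have e2 : chi Q hQ (Additive.ofMul ((Additive.toMul q : Q) : P)) = 0 := if_pos (Additive.toMul q : Q).2
    rw [e0, e0, e2, mul_zero, add_zero] at h1
    rw [Fin.sum_univ_two]
    exact h1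
  have h0 : c 0 = 0 := h01 0
  have h1 : c 1 = 0 := h01 1
  have h2 : c 2 = 0 := by
    have h3 := hval s
    have e2 : chi Q hQ (Additive.ofMul s) = 1 := if_neg hsQ
    rw [h0, h1, e2, zero_mul, zero_mul, mul_one, zero_add, zero_add] at h3
    exact h3
  intro i
  fin_cases i
  · exact h0
  · exact h1
  · exact h2

end Cfsg.Agent.H845.K547
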